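import Mathlib
import Cfsg.Agent.Lib.Classical.ProjLine
import Cfsg.Agent.Lib.Classical.SmallIso

set_option autoImplicit false
set_option linter.unusedVariables false

namespace Cfsg.Agent.Lib.PslRec

open Matrix Matrix.SpecialLinearGroup MulAction Projectivization Cfsg.Agent.Lib.Classical
open scoped MatrixGroups LinearAlgebra.Projectivization

variable {F : Type*} [Field F]

theorem vecOne_ne (x : F) : (![x, 1] : Fin 2 → F) ≠ 0 := by
  rw [vec_ne_zero_iff]
  right
  simp

/-- The points of the projective line. -/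
noncomputable def pt : Option F → ℙ F (Fin 2 → F)
  | none => mk F ![1, 0] e0_ne
  | some x => mk F ![x, 1] (vecOne_ne x)

theorem pt_bijective : Function.Bijective (pt (F := F)) := by
  constructor
  · intro a b h
    cases a with
    | none =>
      cases b with
      | none => rfl
      | some y =>
        exfalso
        have h' : mk F ![1, 0] e0_ne = mk F ![y, 1] (vecOne_ne y) := h
        rw [mk_eq_mk_iff_dt] at h'
        simp [dt] at h'
    | some x =>
      cases b with
      | none =>
        exfalso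
        have h' : mk F ![x, 1] (vecOne_ne x) = mk F ![1, 0] e0_ne := h
        rw [mk_eq_mk_iff_dt] at h'
        simp [dt] at h'
      | some y =>
        have h' : mk F ![x, 1] (vecOne_ne x) = mk F ![y, 1] (vecOne_ne y) := h
        rw [mk_eq_mk_iff_dt] at h'
        simp [dt] at h'
        rw [sub_eq_zero.mp h']
  · intro p
    induction p using Projectivization.ind with
    | _ v hv =>
      by_cases h1 : v 1 = 0
      · refine ⟨none, ?_⟩
        show mk F ![1, 0] e0_ne = mk F v hv
        rw [mk_eq_mk_iff_dt]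
        simp [dt, h1]
      · refine ⟨some (v 0 / v 1), ?_⟩
        show mk F ![v 0 / v 1, 1] (vecOne_ne _) = mk F v hv
        rw [mk_eq_mk_iff_dt]
        simp only [dt, Matrix.cons_val_zero, Matrix.cons_val_one]
        field_simp
        ring

/-- The bijection between `F ∪ {∞}` and the projective line. -/
noncomputable def ptEquiv : Option F ≃ ℙ F (Fin 2 → F) := Equiv.ofBijective pt pt_bijective

/-- The action of `PSL₂` on `F ∪ {∞}`. -/
noncomputable def sigma : Matrix.ProjectiveSpecialLinearGroup (Fin 2) F →* Equiv.Perm (Option F) :=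
  ((ptEquiv (F := F)).symm.permCongrHom.toMonoidHom).comp PSLAction.toPermHom

theorem sigma_injective : Function.Injective (sigma (F := F)) := by
  intro a b h
  apply Matrix.ProjectiveSpecialLinearGroup.toPermHom_injective (K := F) (ι := Fin 2)
  exact (ptEquiv (F := F)).symm.permCongrHom.injective h

/-- A permutation induced by a matrix of `SL₂` lies in the image of `PSL₂`. -/
theorem mem_range_sigma (A : SpecialLinearGroup (Fin 2) F) (φ : Equiv.Perm (Option F))
    (h : ∀ x, A • pt x = pt (φ x)) : φ ∈ (sigma (F := F)).range := by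
  refine ⟨(A : Matrix.ProjectiveSpecialLinearGroup (Fin 2) F), ?_⟩
  apply Equiv.ext
  intro x
  have h1 : sigma (F := F) (A : Matrix.ProjectiveSpecialLinearGroup (Fin 2) F) x =
      ptEquiv.symm ((A : Matrix.ProjectiveSpecialLinearGroup (Fin 2) F) • ptEquiv x) := rfl
  rw [h1]
  apply (ptEquiv (F := F)).injective
  rw [Equiv.apply_symm_apply]
  exact h x

theorem sl_smul_vec (A : Matrix.SpecialLinearGroup (Fin 2) F) (v : Fin 2 → F) :
    A • v = ![A.1 0 0 * v 0 + A.1 0 1 * v 1, A.1 1 0 * v 0 + A.1 1 1 * v 1] := by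
  rw [Matrix.SpecialLinearGroup.smul_def]
  ext i
  fin_cases i <;> simp [Matrix.smul_eq_mulVec, Matrix.mulVec, dotProduct, Fin.sum_univ_two]

/-- Affine maps with square multiplier. -/
theorem affine_mem_range (s β : F) (hs : s ≠ 0) (φ : Equiv.Perm (Option F)) (h0 : φ none = none)
    (h1 : ∀ x, φ (some x) = some (s ^ 2 * x + β)) : φ ∈ (sigma (F := F)).range := by
  let A : SpecialLinearGroup (Fin 2) F := ⟨!![s, β / s; 0, s⁻¹], by
    rw [Matrix.det_fin_two_of]; field_simp; ring⟩
  apply mem_range_sigma A
  intro x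
  cases x with
  | none =>
    rw [h0]
    show A • mk F ![1, 0] e0_ne = mk F ![1, 0] e0_ne
    rw [smul_mk, mk_eq_mk_iff_dt, sl_smul_vec]
    simp [dt, A]
  | some x =>
    rw [h1]
    show A • mk F ![x, 1] (vecOne_ne x) = mk F ![s ^ 2 * x + β, 1] (vecOne_ne _)
    rw [smul_mk, mk_eq_mk_iff_dt, sl_smul_vec]
    simp [dt, A]
    field_simp
    ring

/-- The inversion `x ↦ c / x`, when `-c` is a square. -/
theorem inv_mem_range (c e : F) (he : e ≠ 0) (hc : -c = e ^ 2) (φ : Equiv.Perm (Option F))
    (h0 : φ none = some 0) (h1 : φ (some 0) = none) (h2 : ∀ x, x ≠ 0 → ∃ y, φ (some x) = some y ∧ y * x = c) :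
    φ ∈ (sigma (F := F)).range := by
  have hc0 : c ≠ 0 := by
    rintro rfl
    rw [neg_zero] at hc
    exact he (pow_eq_zero_iff (two_ne_zero)|>.mp hc.symm)
  let A : SpecialLinearGroup (Fin 2) F := ⟨!![0, c / e; e⁻¹, 0], by
    rw [Matrix.det_fin_two_of]
    have : c = -(e ^ 2) := by rw [← hc]; ring
    rw [this]
    field_simp
    ring⟩
  apply mem_range_sigma A
  intro x
  cases x with
  | none =>
    rw [h0]
    show A • mk F ![1, 0] e0_ne = mk F ![0, 1] (vecOne_ne _)
    rw [smul_mk, mk_eq_mk_iff_dt, sl_smul_vec]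
    simp [dt, A]
  | some x =>
    by_cases hx : x = 0
    · subst hx
      rw [h1]
      show A • mk F ![0, 1] (vecOne_ne _) = mk F ![1, 0] e0_ne
      rw [smul_mk, mk_eq_mk_iff_dt, sl_smul_vec]
      simp [dt, A]
    · obtain ⟨y, hy, hxy⟩ := h2 x hx
      rw [hy]
      show A • mk F ![x, 1] (vecOne_ne _) = mk F ![y, 1] (vecOne_ne _)
      rw [smul_mk, mk_eq_mk_iff_dt, sl_smul_vec]
      simp [dt, A]
      rw [← hxy]
      field_simp
      ring

end Cfsg.Agent.Lib.PslRec
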