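import Mathlib
import Cfsg.Agent.Lib.SmallSimple.Count

set_option autoImplicit false
set_option linter.unusedVariables false

namespace Cfsg.Agent.Lib.PslRec

open Cfsg.Agent.Lib.SmallSimple Subgroup

variable {G : Type*} [Group G] {q : ℕ} [hq : Fact q.Prime]

theorem smul_ne_of_ne [Finite G] (hS : ∀ P : Sylow q G, Nat.card (P : Subgroup G) = q) {P Q : Sylow q G} {t : G}
    (ht : t ∈ (P : Subgroup G)) (ho : orderOf t = q) (hQ : Q ≠ P) : t • Q ≠ Q := by
  intro h
  have hn : t ∈ normalizer (Q : Set G) := Sylow.smul_eq_iff_mem_normalizer.mp h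
  have h1 : t ∈ (P : Subgroup G) ⊓ normalizer (Q : Set G) := ⟨ht, hn⟩
  rw [IsPGroup.inf_normalizer_sylow P.isPGroup' Q] at h1
  exact hQ (sylow_eq_of_mem hS ho Q P h1.2 ht)

/-- Labelling of the points. -/
def lab (P Q0 : Sylow q G) (t : G) : Option (ZMod q) → Sylow q G
  | none => P
  | some i => t ^ i.val • Q0

theorem pow_val_add (t : G) (ho : orderOf t = q) (i j : ZMod q) :
    t ^ (i + j).val = t ^ i.val * t ^ j.val := by
  rw [ZMod.val_add, ← pow_add]
  have := pow_mod_orderOf t (i.val + j.val)
  rwa [ho] at this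

theorem pow_val_mul (t : G) (ho : orderOf t = q) (i j : ZMod q) :
    t ^ (i * j).val = t ^ (i.val * j.val) := by
  rw [ZMod.val_mul]
  have := pow_mod_orderOf t (i.val * j.val)
  rwa [ho] at this

theorem pow_natCast_val (t : G) (ho : orderOf t = q) (k : ℕ) :
    t ^ (k : ZMod q).val = t ^ k := by
  rw [ZMod.val_natCast]
  have := pow_mod_orderOf t k
  rwa [ho] at this

theorem lab_injective [Finite G] (hS : ∀ P : Sylow q G, Nat.card (P : Subgroup G) = q) {P Q0 : Sylow q G} {t : G}
    (ht : t ∈ (P : Subgroup G)) (ho : orderOf t = q) (hQ : Q0 ≠ P) : Function.Injective (lab P Q0 t) := by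
  have hfix : ∀ n : ℕ, t ^ n • P = P := fun n =>
    Sylow.smul_eq_iff_mem_normalizer.mpr (le_normalizer (pow_mem ht n))
  have hne : ∀ i : ZMod q, t ^ i.val • Q0 ≠ P := by
    intro i h
    apply hQ
    have h2 : (t ^ i.val)⁻¹ • (t ^ i.val • Q0) = (t ^ i.val)⁻¹ • P := by rw [h]
    rw [inv_smul_smul] at h2
    rw [h2, inv_smul_eq_iff, hfix]
  have hstep : ∀ i j : ZMod q, t ^ i.val • Q0 = t ^ j.val • Q0 → i = j := by
    intro i j h
    by_contra hij
    -- the difference fixes Q0
    have h1 : t ^ (i - j).val • Q0 = Q0 := by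
      have h3 : t ^ (i - j).val * t ^ j.val = t ^ i.val := by
        rw [← pow_val_add t ho, sub_add_cancel]
      have h4 : t ^ (i - j).val • (t ^ j.val • Q0) = t ^ j.val • Q0 := by
        rw [smul_smul, h3, h]
      -- commute
      have h5 : t ^ j.val * t ^ (i - j).val = t ^ (i - j).val * t ^ j.val :=
        (Commute.pow_pow_self t _ _)
      have h6 : t ^ j.val • (t ^ (i - j).val • Q0) = t ^ j.val • Q0 := by
        rw [smul_smul, h5, ← smul_smul, h4]
      exact smul_left_cancel _ h6
    have hs : i - j ≠ 0 := sub_ne_zero.mpr hij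
    have hv : (i - j).val ≠ 0 := by
      rwa [Ne, ZMod.val_eq_zero]
    have hlt : (i - j).val < q := ZMod.val_lt _
    have hoo : orderOf (t ^ (i - j).val) = q := by
      have hc : Nat.Coprime (orderOf t) (i - j).val := by
        rw [ho]
        rcases Nat.coprime_or_dvd_of_prime hq.out (i - j).val with h | h
        · exact h
        · exact absurd (Nat.le_of_dvd (Nat.pos_of_ne_zero hv) h) (by omega)
      rw [Nat.Coprime.orderOf_pow hc, ho]
    exact smul_ne_of_ne hS (pow_mem ht _) hoo hQ h1
  intro x y h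
  cases x with
  | none =>
    cases y with
    | none => rfl
    | some j => exact absurd h.symm (hne j)
  | some i =>
    cases y with
    | none => exact absurd h (hne i)
    | some j => rw [hstep i j h]

/-- Number of ordered pairs of distinct points. -/
theorem card_offDiag_subtype {X : Type*} [Finite X] :
    Nat.card {p : X × X // p.1 ≠ p.2} = Nat.card X * (Nat.card X - 1) := by
  classical
  have := Fintype.ofFinite X
  rw [Nat.card_eq_fintype_card, Nat.card_eq_fintype_card, Fintype.card_subtype]
  have : (Finset.univ.filter fun p : X × X => p.1 ≠ p.2) = (Finset.univ : Finset X).offDiag := by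
    ext p
    simp
  rw [this, Finset.offDiag_card, Nat.mul_sub, mul_one, Finset.card_univ]

/-- The main construction: a faithful action on the projective line. -/
theorem exists_rho [Finite G] [IsSimpleGroup G] {m : ℕ} (hm : q = 2 * m + 1) (hm1 : 2 ≤ m)
    (hcard : Nat.card G = (q + 1) * q * m) (hn : Nat.card (Sylow q G) = q + 1) :
    ∃ ρ : G →* Equiv.Perm (Option (ZMod q)), Function.Injective ρ ∧
      (∃ t : G, ρ t none = none ∧ ∀ x, ρ t (some x) = some (x + 1)) ∧
      (∀ g : G, ρ g none = none → ρ g (some 0) = some 0 →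
        ∃ a : ZMod q, a ≠ 0 ∧ a ^ m = 1 ∧ ∀ x, ρ g (some x) = some (a * x)) ∧
      (∀ a : ZMod q, a ^ m = 1 → ∃ g : G, ρ g none = none ∧ ∀ x, ρ g (some x) = some (a * x)) ∧
      (∃ w : G, ρ w none = some 0 ∧ ρ w (some 0) = none) := by
  classical
  have hqp := hq.out
  have hnd : ¬ q ∣ (q + 1) * m := by
    intro h
    rcases (Nat.Prime.dvd_mul hqp).mp h with h | h
    · have h1 : q ∣ 1 := (Nat.dvd_add_right (dvd_refl q)).mp h
      have := Nat.le_of_dvd one_pos h1
      omega
    · have := Nat.le_of_dvd (by omega) h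
      omega
  have hcard' : Nat.card G = q ^ 1 * ((q + 1) * m) := by rw [hcard]; ring
  have hS : ∀ P : Sylow q G, Nat.card (P : Subgroup G) = q := fun P => by
    simpa using sylow_card_of_eq P hcard' hnd
  obtain ⟨P⟩ : Nonempty (Sylow q G) := inferInstance
  have hnt : Nontrivial (P : Subgroup G) := by
    apply Finite.one_lt_card_iff_nontrivial.mp
    rw [hS P]
    exact hqp.one_lt
  obtain ⟨t0, ht0⟩ := exists_ne (1 : (P : Subgroup G))
  set t : G := (t0 : G) with ht_def
  have htP : t ∈ (P : Subgroup G) := t0.2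
  have ht1 : t ≠ 1 := fun h => ht0 (Subtype.ext h)
  have ho : orderOf t = q := orderOf_eq_of_mem_sylow (hS P) htP ht1
  have hPz : (P : Subgroup G) = zpowers t := eq_zpowers_of_card (hS P) htP ho
  have hntS : Nontrivial (Sylow q G) := by
    apply Finite.one_lt_card_iff_nontrivial.mp
    rw [hn]
    omega
  obtain ⟨Q0, hQ0⟩ := exists_ne P
  have hfinj : Function.Injective (lab P Q0 t) := lab_injective hS htP ho hQ0
  have hcO : Nat.card (Option (ZMod q)) = q + 1 := by
    rw [Nat.card_eq_fintype_card, Fintype.card_option, ZMod.card]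
  have hfbij : Function.Bijective (lab P Q0 t) :=
    (Nat.bijective_iff_injective_and_card _).2 ⟨hfinj, by rw [hcO, hn]⟩
  let e : Option (ZMod q) ≃ Sylow q G := Equiv.ofBijective _ hfbij
  let ρ : G →* Equiv.Perm (Option (ZMod q)) :=
    (e.symm.permCongrHom.toMonoidHom).comp (MulAction.toPermHom G (Sylow q G))
  have hspec : ∀ g x, lab P Q0 t (ρ g x) = g • lab P Q0 t x := by
    intro g x
    have : ρ g x = e.symm (g • e x) := rfl
    rw [this]
    exact e.apply_symm_apply _
  have hfix : ∀ n : ℕ, t ^ n • P = P := fun n =>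
    Sylow.smul_eq_iff_mem_normalizer.mpr (le_normalizer (pow_mem htP n))
  have hzero : (lab P Q0 t (some 0)) = Q0 := by
    show t ^ (0 : ZMod q).val • Q0 = Q0
    rw [ZMod.val_zero, pow_zero, one_smul]
  have hkerTop : (MulAction.toPermHom G (Sylow q G)).ker ≠ ⊤ := by
    intro h
    obtain ⟨g, hg⟩ := MulAction.exists_smul_eq G P Q0
    have h1 : g ∈ (MulAction.toPermHom G (Sylow q G)).ker := by rw [h]; trivial
    have h2 : (MulAction.toPermHom G (Sylow q G)) g P = P := by rw [MonoidHom.mem_ker.mp h1]; rfl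
    have h3 : g • P = P := h2
    rw [h3] at hg
    exact hQ0 hg.symm
  have hρinj : Function.Injective ρ := by
    intro a b hab
    apply Cfsg.Agent.Lib.SmallSimple.injective_of_ker_ne_top _ hkerTop
    apply Equiv.ext
    intro X
    have h1 := congrArg (fun r : Equiv.Perm (Option (ZMod q)) => r (e.symm X)) hab
    have h2 : ∀ g : G, ρ g (e.symm X) = e.symm (g • X) := by
      intro g
      have : ρ g (e.symm X) = e.symm (g • e (e.symm X)) := rfl
      rw [this, e.apply_symm_apply]
    simp only [h2] at h1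
    exact e.symm.injective h1
  -- 2-transitivity
  have h2t : ∀ x y : Sylow q G, x ≠ y → ∃ g : G, g • P = x ∧ g • Q0 = y := by
    intro x y hxy
    obtain ⟨g1, hg1⟩ := MulAction.exists_smul_eq G P x
    have hy' : g1⁻¹ • y ≠ P := by
      intro h
      apply hxy
      rw [← hg1, ← h, smul_inv_smul]
    obtain ⟨o, ho'⟩ := hfbij.2 (g1⁻¹ • y)
    cases o with
    | none => exact absurd ho'.symm hy'
    | some i =>
      refine ⟨g1 * t ^ i.val, ?_, ?_⟩
      · rw [← smul_smul, hfix, hg1]
      · rw [← smul_smul]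
        have : t ^ i.val • Q0 = g1⁻¹ • y := ho'
        rw [this, smul_inv_smul]
  -- the pair stabilizer
  have hpairs : MulAction.orbit G ((P, Q0) : Sylow q G × Sylow q G) = {p | p.1 ≠ p.2} := by
    ext ⟨x, y⟩
    constructor
    · rintro ⟨g, hg⟩
      have h1 : g • P = x := congrArg Prod.fst hg
      have h2 : g • Q0 = y := congrArg Prod.snd hg
      intro h
      have h3 : x = y := h
      rw [← h1, ← h2] at h3
      exact hQ0 (smul_left_cancel _ h3).symm
    · intro h
      obtain ⟨g, hg1, hg2⟩ := h2t x y h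
      exact ⟨g, Prod.ext hg1 hg2⟩
  let H := MulAction.stabilizer G ((P, Q0) : Sylow q G × Sylow q G)
  have hHcard : Nat.card H = m := by
    have h1 := Subgroup.card_mul_index H
    have h2 : H.index = (q + 1) * q := by
      rw [MulAction.index_stabilizer, hpairs, ← Nat.card_coe_set_eq]
      have h3 := card_offDiag_subtype (X := Sylow q G)
      rw [hn] at h3
      have h4 : Nat.card ↥{p : Sylow q G × Sylow q G | p.1 ≠ p.2} = Nat.card {p : Sylow q G × Sylow q G // p.1 ≠ p.2} := rfl
      rw [h4, h3]
      simp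
    rw [h2, hcard] at h1
    have hpos : 0 < (q + 1) * q := by have := hqp.pos; positivity
    have h5 : (q + 1) * q * Nat.card H = (q + 1) * q * m := by rw [← h1]; ring
    exact Nat.eq_of_mul_eq_mul_left hpos h5
  -- structure of elements fixing the two points
  have hstruct : ∀ g : G, g • P = P → g • Q0 = Q0 → ∃ a : ZMod q, ∀ x, ρ g (some x) = some (a * x) := by
    intro g hg1 hg2
    have hgN : g ∈ normalizer (P : Set G) := Sylow.smul_eq_iff_mem_normalizer.mp hg1
    have h1 : g * t * g⁻¹ ∈ (P : Subgroup G) := (mem_normalizer_iff.mp hgN t).mp htP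
    rw [hPz] at h1
    have h2 : g * t * g⁻¹ ∈ Submonoid.powers t := by
      rw [mem_powers_iff_mem_zpowers]
      exact h1
    obtain ⟨k, hk⟩ := Submonoid.mem_powers_iff _ _ |>.mp h2
    refine ⟨(k : ZMod q), fun x => ?_⟩
    apply hfinj
    rw [hspec]
    show g • (t ^ x.val • Q0) = t ^ ((k : ZMod q) * x).val • Q0
    rw [pow_val_mul t ho, pow_mul, pow_natCast_val t ho, hk, conj_pow]
    calc g • (t ^ x.val • Q0) = (g * t ^ x.val * g⁻¹) • (g • Q0) := by
          rw [smul_smul, smul_smul]; congr 1; group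
      _ = _ := by rw [hg2]
  have hρpow : ∀ (g : G) (a : ZMod q), (∀ x, ρ g (some x) = some (a * x)) →
      ∀ (n : ℕ) (x : ZMod q), ρ (g ^ n) (some x) = some (a ^ n * x) := by
    intro g a hg n
    induction n with
    | zero => intro x; simp
    | succ n ih =>
      intro x
      rw [pow_succ, map_mul, Equiv.Perm.mul_apply, hg, ih]
      congr 1
      ring
  have hone_ne : (some (1 : ZMod q)) ≠ some 0 := by
    simp
  -- elements of `H`
  have hH : ∀ g : G, ρ g none = none → ρ g (some 0) = some 0 → g ∈ H := by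
    intro g h1 h2
    have h3 : g • P = P := by
      have := hspec g none
      rw [h1] at this
      exact this.symm
    have h4 : g • Q0 = Q0 := by
      have := hspec g (some 0)
      rw [h2, hzero] at this
      exact this.symm
    exact MulAction.mem_stabilizer_iff.mpr (Prod.ext h3 h4)
  have hHmem : ∀ g : H, g.1 • P = P ∧ g.1 • Q0 = Q0 := by
    intro g
    have := MulAction.mem_stabilizer_iff.mp g.2
    exact ⟨congrArg Prod.fst this, congrArg Prod.snd this⟩
  have hHfix : ∀ g : H, ρ g.1 none = none ∧ ρ g.1 (some 0) = some 0 := by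
    intro g
    obtain ⟨h1, h2⟩ := hHmem g
    constructor
    · apply hfinj
      rw [hspec]
      exact h1
    · apply hfinj
      rw [hspec, hzero]
      exact h2
  have hHpow : ∀ g : H, g.1 ^ m = 1 := by
    intro g
    have := pow_card_eq_one' (G := H) (x := g)
    rw [hHcard] at this
    exact congrArg Subtype.val this
  have hA : ∀ g : H, ∃ a : ZMod q, a ^ m = 1 ∧ ∀ x, ρ g.1 (some x) = some (a * x) := by
    intro g
    obtain ⟨h1, h2⟩ := hHmem g
    obtain ⟨a, ha⟩ := hstruct g.1 h1 h2
    refine ⟨a, ?_, ha⟩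
    have h3 := hρpow g.1 a ha m 1
    rw [hHpow, map_one, Equiv.Perm.one_apply] at h3
    have h4 := Option.some.inj h3
    rw [mul_one] at h4
    exact h4.symm
  choose A hA1 hA2 using hA
  have hne0 : ∀ a : ZMod q, a ^ m = 1 → a ≠ 0 := by
    rintro a ha rfl
    rw [zero_pow (by omega)] at ha
    exact zero_ne_one ha
  have hAinj : Function.Injective A := by
    intro g g' h
    apply Subtype.ext
    apply hρinj
    apply Equiv.ext
    intro x
    cases x with
    | none => rw [(hHfix g).1, (hHfix g').1]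
    | some y => rw [hA2, hA2, h]
  -- surjectivity
  have hAsurj : ∀ b : ZMod q, b ^ m = 1 → ∃ g : H, A g = b := by
    intro b hb
    have hbu : IsUnit b := (hne0 b hb).isUnit
    -- the set of solutions
    let U := {u : ZMod q // u ^ m = 1}
    let A' : H → U := fun g => ⟨A g, hA1 g⟩
    have hA'inj : Function.Injective A' := fun g g' h => hAinj (congrArg Subtype.val h)
    have hUcard : Nat.card U ≤ m := by
      classical
      have h1 : Nat.card U = (Polynomial.nthRootsFinset m (1 : ZMod q)).card := by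
        rw [Nat.card_eq_fintype_card, Fintype.card_subtype]
        congr 1
        ext u
        simp [Polynomial.mem_nthRootsFinset (by omega : 0 < m)]
      rw [h1]
      exact (@Multiset.toFinset_card_le (ZMod q) (Classical.decEq _) _).trans (Polynomial.card_nthRoots _ _)
    have hbij := hA'inj.bijective_of_nat_card_le (by rw [hHcard]; exact hUcard)
    obtain ⟨g, hg⟩ := hbij.2 ⟨b, hb⟩
    exact ⟨g, congrArg Subtype.val hg⟩
  refine ⟨ρ, hρinj, ⟨t, ?_, ?_⟩, ?_, ?_, ?_⟩
  · apply hfinj
    rw [hspec]
    have := hfix 1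
    rwa [pow_one] at this
  · intro x
    apply hfinj
    rw [hspec]
    show t • (t ^ x.val • Q0) = t ^ (x + 1).val • Q0
    rw [pow_val_add t ho, smul_smul]
    have h1 : t ^ (1 : ZMod q).val = t := by
      have := pow_natCast_val t ho 1
      simpa using this
    rw [h1, ← pow_succ, ← pow_succ']
  · intro g h1 h2
    have hg := hH g h1 h2
    refine ⟨A ⟨g, hg⟩, hne0 _ (hA1 _), hA1 _, hA2 ⟨g, hg⟩⟩
  · intro a ha
    obtain ⟨g, hg⟩ := hAsurj a ha
    refine ⟨g.1, (hHfix g).1, fun x => ?_⟩
    rw [hA2, hg]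
  · obtain ⟨w, hw1, hw2⟩ := h2t Q0 P hQ0
    refine ⟨w, ?_, ?_⟩
    · apply hfinj
      rw [hspec, hzero]
      exact hw1
    · apply hfinj
      rw [hspec, hzero]
      exact hw2

end Cfsg.Agent.Lib.PslRec
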