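import Mathlib
import Cfsg.Agent.Lib.PslRec.Rho
import Cfsg.Agent.Lib.PslRec.Mobius

set_option autoImplicit false
set_option linter.unusedVariables false

namespace Cfsg.Agent.Lib.PslRec

variable {q : ℕ}

/-- candidate values of the swap on nonzero points -/
def cf (m e : ℕ) (r1 r2 x : ZMod q) : ZMod q := (if x ^ m = 1 then r1 else r2) * x ^ e

/-- candidate swap -/
def cW (m e : ℕ) (r1 r2 : ZMod q) : Option (ZMod q) → Option (ZMod q)
  | none => some 0
  | some x => if x = 0 then none else some (cf m e r1 r2 x)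

/-- the word `W T^{-f i} W T^i W` -/
def cg (m e : ℕ) (r1 r2 i : ZMod q) (y : Option (ZMod q)) : Option (ZMod q) :=
  cW m e r1 r2 ((cW m e r1 r2 ((cW m e r1 r2 y).map (· + i))).map (· + -(cf m e r1 r2 i)))

/-- the word above is affine with a square multiplier -/
def Phi [NeZero q] (m e : ℕ) (r1 r2 i : ZMod q) : Prop :=
  match cg m e r1 r2 i (some 0), cg m e r1 r2 i (some 1) with
  | some b0, some b1 => (b1 - b0) ^ m = 1 ∧ ∀ x : ZMod q, cg m e r1 r2 i (some x) = some ((b1 - b0) * x + b0)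
  | _, _ => False

instance [NeZero q] (m e : ℕ) (r1 r2 i : ZMod q) : Decidable (Phi m e r1 r2 i) := by
  unfold Phi
  split <;> infer_instance

/-- the candidate is the inversion `x ↦ c / x` with `-c` a square -/
def Good [NeZero q] (m e : ℕ) (r1 r2 c : ZMod q) : Prop :=
  (-c) ^ m = 1 ∧ ∀ x : ZMod q, x ≠ 0 → cf m e r1 r2 x * x = c

instance [NeZero q] (m e : ℕ) (r1 r2 c : ZMod q) : Decidable (Good m e r1 r2 c) := by
  unfold Good
  infer_instance

section core

variable [hq : Fact q.Prime] {G : Type*} [Group G] {m : ℕ}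
  (ρ : G →* Equiv.Perm (Option (ZMod q)))

omit hq in
theorem exists_trans [Fact q.Prime] (t : G) (ht0 : ρ t none = none) (ht1 : ∀ x, ρ t (some x) = some (x + 1)) (s : ZMod q) :
    ∃ g : G, ρ g none = none ∧ ∀ x, ρ g (some x) = some (x + s) := by
  have h0 : ∀ n : ℕ, ρ (t ^ n) none = none := by
    intro n
    induction n with
    | zero => simp
    | succ n ih => rw [pow_succ, map_mul, Equiv.Perm.mul_apply, ht0, ih]
  have h1 : ∀ (n : ℕ) (x : ZMod q), ρ (t ^ n) (some x) = some (x + n) := by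
    intro n x
    induction n with
    | zero => simp
    | succ n ih =>
      rw [pow_succ', map_mul, Equiv.Perm.mul_apply, ih, ht1]
      congr 1
      push_cast
      ring
  refine ⟨t ^ s.val, h0 _, fun x => ?_⟩
  rw [h1, ZMod.natCast_zmod_val]

/-- elements fixing `∞` act as affine maps -/
theorem affine_of_fix (t : G) (ht0 : ρ t none = none) (ht1 : ∀ x, ρ t (some x) = some (x + 1))
    (H2 : ∀ g : G, ρ g none = none → ρ g (some 0) = some 0 →
        ∃ a : ZMod q, a ≠ 0 ∧ a ^ m = 1 ∧ ∀ x, ρ g (some x) = some (a * x))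
    (g : G) (hg : ρ g none = none) :
    ∃ α β : ZMod q, α ≠ 0 ∧ α ^ m = 1 ∧ ∀ x, ρ g (some x) = some (α * x + β) := by
  have hne : ∀ x : ZMod q, ρ g (some x) ≠ none := by
    intro x h
    have h2 : ρ g (some x) = ρ g none := by rw [h, hg]
    exact absurd ((ρ g).injective h2) (by simp)
  obtain ⟨β, hβ⟩ := Option.ne_none_iff_exists'.mp (hne 0)
  obtain ⟨u, hu0, hu1⟩ := exists_trans ρ t ht0 ht1 (-β)
  obtain ⟨α, hα0, hαm, hα⟩ := H2 (u * g)
    (by rw [map_mul, Equiv.Perm.mul_apply, hg, hu0])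
    (by rw [map_mul, Equiv.Perm.mul_apply, hβ, hu1]; simp)
  refine ⟨α, β, hα0, hαm, fun x => ?_⟩
  obtain ⟨y, hy⟩ := Option.ne_none_iff_exists'.mp (hne x)
  have h3 := hα x
  rw [map_mul, Equiv.Perm.mul_apply, hy, hu1] at h3
  rw [hy]
  have h4 := Option.some.inj h3
  congr 1
  rw [← h4]
  ring

/-- Bruhat decomposition: everything lies in the image of `PSL₂`. -/
theorem range_le (t : G) (ht0 : ρ t none = none) (ht1 : ∀ x, ρ t (some x) = some (x + 1))
    (H2 : ∀ g : G, ρ g none = none → ρ g (some 0) = some 0 →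
        ∃ a : ZMod q, a ≠ 0 ∧ a ^ m = 1 ∧ ∀ x, ρ g (some x) = some (a * x))
    (hsq : ∀ a : ZMod q, a ≠ 0 → a ^ m = 1 → ∃ s : ZMod q, s ≠ 0 ∧ a = s ^ 2)
    (w : G) (hw0 : ρ w none = some 0) (hw1 : ρ w (some 0) = none)
    (hwσ : ρ w ∈ (sigma (F := ZMod q)).range) : ρ.range ≤ (sigma (F := ZMod q)).range := by
  have hfix : ∀ g : G, ρ g none = none → ρ g ∈ (sigma (F := ZMod q)).range := by
    intro g hg
    obtain ⟨α, β, hα0, hαm, hα⟩ := affine_of_fix ρ t ht0 ht1 H2 g hg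
    obtain ⟨s, hs, rfl⟩ := hsq α hα0 hαm
    exact affine_mem_range s β hs (ρ g) hg hα
  rintro _ ⟨g, rfl⟩
  cases h : ρ g none with
  | none => exact hfix g h
  | some i =>
    obtain ⟨u, hu0, hu1⟩ := exists_trans ρ t ht0 ht1 i
    have h2 : ρ ((u * w)⁻¹ * g) none = none := by
      rw [map_mul, Equiv.Perm.mul_apply, h, map_inv, Equiv.Perm.inv_eq_iff_eq, map_mul,
        Equiv.Perm.mul_apply, hw0, hu1]
      simp
    have h3 := hfix _ h2
    have h4 : g = u * w * ((u * w)⁻¹ * g) := by group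
    rw [h4, map_mul, map_mul]
    refine mul_mem (mul_mem ?_ hwσ) h3
    apply hfix
    exact hu0

/-- The shape of the swap. -/
theorem swap_shape (hm1 : 1 ≤ m)
    (H2 : ∀ g : G, ρ g none = none → ρ g (some 0) = some 0 →
        ∃ a : ZMod q, a ≠ 0 ∧ a ^ m = 1 ∧ ∀ x, ρ g (some x) = some (a * x))
    (H3 : ∀ a : ZMod q, a ^ m = 1 → ∃ g : G, ρ g none = none ∧ ∀ x, ρ g (some x) = some (a * x))
    (a0 n0 n0' : ZMod q)
    (hroot : ∀ b : ZMod q, b ^ m = 1 → ∃ e, e < m ∧ b = a0 ^ e)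
    (ha0 : a0 ^ m = 1) (hn : n0 * n0' = 1)
    (hn0 : ∀ x : ZMod q, x ≠ 0 → x ^ m = 1 ∨ (x * n0') ^ m = 1)
    (w : G) (hw0 : ρ w none = some 0) (hw1 : ρ w (some 0) = none)
    (hr : ρ w (some 1) = some 1 ∨ ρ w (some 1) = some n0) :
    ∃ (e : Fin m) (r1 r2 : ZMod q), (r1 = 1 ∨ r1 = n0) ∧ r2 ≠ 0 ∧ ∀ y, ρ w y = cW m e.val r1 r2 y := by
  have hne0 : ∀ a : ZMod q, a ^ m = 1 → a ≠ 0 := by
    rintro a ha rfl
    rw [zero_pow (by omega)] at ha
    exact zero_ne_one ha
  have hn0ne : n0 ≠ 0 := by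
    rintro rfl
    rw [zero_mul] at hn
    exact zero_ne_one hn
  have hn0'ne : n0' ≠ 0 := by
    rintro rfl
    rw [mul_zero] at hn
    exact zero_ne_one hn
  have hf : ∀ x : ZMod q, x ≠ 0 → ∃ y : ZMod q, y ≠ 0 ∧ ρ w (some x) = some y := by
    intro x hx
    cases h : ρ w (some x) with
    | none =>
      have : ρ w (some x) = ρ w (some 0) := by rw [h, hw1]
      have h2 := (ρ w).injective this
      exact absurd (Option.some.inj h2) hx
    | some y =>
      refine ⟨y, ?_, rfl⟩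
      rintro rfl
      have : ρ w (some x) = ρ w none := by rw [h, hw0]
      exact absurd ((ρ w).injective this) (by simp)
  let f : ZMod q → ZMod q := fun x => (ρ w (some x)).getD 0
  have hf1 : ∀ x : ZMod q, x ≠ 0 → ρ w (some x) = some (f x) := by
    intro x hx
    obtain ⟨y, _, hy⟩ := hf x hx
    simp [f, hy]
  have hf2 : ∀ x : ZMod q, x ≠ 0 → f x ≠ 0 := by
    intro x hx
    obtain ⟨y, hy0, hy⟩ := hf x hx
    simpa [f, hy] using hy0
  obtain ⟨d, hd0, hd1⟩ := H3 a0 ha0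
  have hwinv0 : ρ w⁻¹ none = some 0 := by
    rw [map_inv, Equiv.Perm.inv_eq_iff_eq]
    exact hw1.symm
  have hwinv1 : ρ w⁻¹ (some 0) = none := by
    rw [map_inv, Equiv.Perm.inv_eq_iff_eq]
    exact hw0.symm
  obtain ⟨b, hb0, hbm, hb⟩ := H2 (w * d * w⁻¹)
    (by
      rw [map_mul, map_mul, Equiv.Perm.mul_apply, Equiv.Perm.mul_apply, hwinv0, hd1, mul_zero, hw1])
    (by
      rw [map_mul, map_mul, Equiv.Perm.mul_apply, Equiv.Perm.mul_apply, hwinv1, hd0, hw0])
  have ha0ne := hne0 a0 ha0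
  have hrel : ∀ x : ZMod q, x ≠ 0 → f (a0 * x) = b * f x := by
    intro x hx
    have h1 := hb (f x)
    rw [map_mul, map_mul, Equiv.Perm.mul_apply, Equiv.Perm.mul_apply] at h1
    have h2 : ρ w⁻¹ (some (f x)) = some x := by
      rw [map_inv, Equiv.Perm.inv_eq_iff_eq, hf1 x hx]
    rw [h2, hd1, hf1 _ (mul_ne_zero ha0ne hx)] at h1
    exact Option.some.inj h1
  have hrelk : ∀ (k : ℕ) (x : ZMod q), x ≠ 0 → f (a0 ^ k * x) = b ^ k * f x := by
    intro k x hx
    induction k with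
    | zero => simp
    | succ k ih =>
      rw [pow_succ', mul_assoc, hrel _ (mul_ne_zero (pow_ne_zero _ ha0ne) hx), ih, pow_succ']
      ring
  obtain ⟨e, heLt, rfl⟩ := hroot b hbm
  have hclosed : ∀ x : ZMod q, x ≠ 0 → f x = cf m e (f 1) (n0' ^ e * f n0) x := by
    intro x hx
    unfold cf
    split_ifs with hxm
    · obtain ⟨k, _, rfl⟩ := hroot x hxm
      have := hrelk k 1 one_ne_zero
      rw [mul_one] at this
      rw [this, ← pow_mul, ← pow_mul, mul_comm e k, mul_comm]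
    · have hx2 := (hn0 x hx).resolve_left hxm
      obtain ⟨k, _, hk⟩ := hroot _ hx2
      have hx3 : x = a0 ^ k * n0 := by
        rw [← hk, mul_assoc, mul_comm n0', hn, mul_one]
      have := hrelk k n0 hn0ne
      rw [← hx3] at this
      rw [this, ← pow_mul, mul_comm e k, pow_mul]
      rw [show n0' ^ e * f n0 * x ^ e = (x * n0') ^ e * f n0 by rw [mul_pow]; ring, hk]
  refine ⟨⟨e, heLt⟩, f 1, n0' ^ e * f n0, ?_, mul_ne_zero (pow_ne_zero _ hn0'ne) (hf2 _ hn0ne), ?_⟩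
  · have h1 := hf1 1 one_ne_zero
    rcases hr with h | h
    · left
      rw [h] at h1
      exact (Option.some.inj h1).symm
    · right
      rw [h] at h1
      exact (Option.some.inj h1).symm
  · intro y
    cases y with
    | none => exact hw0
    | some x =>
      show ρ w (some x) = if x = 0 then none else some (cf m e (f 1) (n0' ^ e * f n0) x)
      split_ifs with hx
      · rw [hx]
        exact hw1
      · rw [hf1 x hx, hclosed x hx]

/-- The words in the candidate are affine. -/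
theorem phi_of_agree (t : G) (ht0 : ρ t none = none) (ht1 : ∀ x, ρ t (some x) = some (x + 1))
    (H2 : ∀ g : G, ρ g none = none → ρ g (some 0) = some 0 →
        ∃ a : ZMod q, a ≠ 0 ∧ a ^ m = 1 ∧ ∀ x, ρ g (some x) = some (a * x))
    (w : G) (e : ℕ) (r1 r2 : ZMod q) (hW : ∀ y, ρ w y = cW m e r1 r2 y) (i : ZMod q) (hi : i ≠ 0) :
    Phi m e r1 r2 i := by
  obtain ⟨v, hv0, hv1⟩ := exists_trans ρ t ht0 ht1 i
  obtain ⟨u, hu0, hu1⟩ := exists_trans ρ t ht0 ht1 (-(cf m e r1 r2 i))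
  have hv : ∀ z : Option (ZMod q), ρ v z = z.map (· + i) := by
    intro z
    cases z with
    | none => exact hv0
    | some x => exact hv1 x
  have hu : ∀ z : Option (ZMod q), ρ u z = z.map (· + -(cf m e r1 r2 i)) := by
    intro z
    cases z with
    | none => exact hu0
    | some x => exact hu1 x
  have hag : ∀ y, ρ (w * u * w * v * w) y = cg m e r1 r2 i y := by
    intro y
    simp only [map_mul, Equiv.Perm.mul_apply, hW, hu, hv, cg]
  have hnone : ρ (w * u * w * v * w) none = none := by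
    rw [hag]
    simp [cg, cW, hi]
  obtain ⟨α, β, hα0, hαm, hα⟩ := affine_of_fix ρ t ht0 ht1 H2 _ hnone
  have h0 : cg m e r1 r2 i (some 0) = some β := by
    rw [← hag, hα]
    simp
  have h1 : cg m e r1 r2 i (some 1) = some (α + β) := by
    rw [← hag, hα]
    simp
  unfold Phi
  rw [h0, h1]
  simp only [add_sub_cancel_right]
  refine ⟨hαm, fun x => ?_⟩
  rw [← hag, hα]

end core

theorem card_psl_two (q m : ℕ) [Fact q.Prime] (hm : q = 2 * m + 1) (hm1 : 1 ≤ m) :
    Nat.card (Matrix.ProjectiveSpecialLinearGroup (Fin 2) (ZMod q)) = (q + 1) * q * m := by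
  have h := Cfsg.Agent.Lib.Classical.card_PSL_two_mul (F := ZMod q)
  rw [Nat.card_zmod] at h
  have h1 : q - 1 = 2 * m := by omega
  rw [h1] at h
  have h2 : Nat.gcd 2 (2 * m) = 2 := Nat.gcd_eq_left (Dvd.intro _ rfl)
  rw [h2] at h
  set P := Nat.card (Matrix.ProjectiveSpecialLinearGroup (Fin 2) (ZMod q)) with hP
  have h3 : q ^ 2 - 1 = 4 * m * (m + 1) := by
    subst hm
    have : (2 * m + 1) ^ 2 = 4 * m * (m + 1) + 1 := by ring
    omega
  have h4 : q ^ 2 - q = 2 * m * (2 * m + 1) := by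
    subst hm
    have : (2 * m + 1) ^ 2 = 2 * m * (2 * m + 1) + (2 * m + 1) := by ring
    omega
  rw [h3, h4] at h
  have h5 : 4 * m * P = 4 * m * ((q + 1) * q * m) := by
    subst hm
    calc 4 * m * P = 2 * (2 * m * P) := by ring
      _ = 4 * m * (m + 1) * (2 * m * (2 * m + 1)) := h
      _ = _ := by ring
  exact Nat.eq_of_mul_eq_mul_left (by omega) h5

/-- From containment of ranges and equal orders to an isomorphism. -/
theorem nonempty_equiv_of_range_le {G : Type*} [Group G] [Finite G] {q m : ℕ} [Fact q.Prime] (hm : q = 2 * m + 1) (hm1 : 1 ≤ m)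
    (hcard : Nat.card G = (q + 1) * q * m) (ρ : G →* Equiv.Perm (Option (ZMod q))) (hinj : Function.Injective ρ)
    (hle : ρ.range ≤ (sigma (F := ZMod q)).range) :
    Nonempty (G ≃* Matrix.ProjectiveSpecialLinearGroup (Fin 2) (ZMod q)) := by
  have h1 : Nat.card ρ.range = (q + 1) * q * m := by
    rw [← hcard]
    exact (Nat.card_congr (MonoidHom.ofInjective hinj).toEquiv).symm
  have h2 : Nat.card (sigma (F := ZMod q)).range = (q + 1) * q * m := by
    rw [← card_psl_two q m hm hm1]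
    exact (Nat.card_congr (MonoidHom.ofInjective sigma_injective).toEquiv).symm
  have h3 : ρ.range = (sigma (F := ZMod q)).range :=
    Subgroup.eq_of_le_of_card_ge hle (by rw [h1, h2])
  exact ⟨((MonoidHom.ofInjective hinj).trans (MulEquiv.subgroupCongr h3)).trans
    (MonoidHom.ofInjective sigma_injective).symm⟩

/-- The recognition theorem, with the shape of the swap as a hypothesis. -/
theorem rec_core {q m : ℕ} [Fact q.Prime] (hm : q = 2 * m + 1) (hm1 : 2 ≤ m)
    (a0 n0 n0' : ZMod q)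
    (hroot : ∀ b : ZMod q, b ^ m = 1 → ∃ e, e < m ∧ b = a0 ^ e)
    (ha0 : a0 ^ m = 1) (hn : n0 * n0' = 1)
    (hn0 : ∀ x : ZMod q, x ≠ 0 → x ^ m = 1 ∨ (x * n0') ^ m = 1)
    {G : Type*} [Group G] [Finite G] [IsSimpleGroup G]
    (hcard : Nat.card G = (q + 1) * q * m) (hsyl : Nat.card (Sylow q G) = q + 1)
    (hW : ∀ (ρ : G →* Equiv.Perm (Option (ZMod q))), Function.Injective ρ → ∀ (t w : G), ρ t none = none →
      (∀ x, ρ t (some x) = some (x + 1)) → ρ w none = some 0 → ρ w (some 0) = none →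
      (∀ a : ZMod q, a ^ m = 1 → ∃ g : G, ρ g none = none ∧ ∀ x, ρ g (some x) = some (a * x)) →
      ∀ (e : Fin m) (r1 r2 : ZMod q), (r1 = 1 ∨ r1 = n0) → r2 ≠ 0 → (∀ i : ZMod q, i ≠ 0 → Phi m e.val r1 r2 i) →
      (∀ y, ρ w y = cW m e.val r1 r2 y) → ∃ c, Good m e.val r1 r2 c) :
    Nonempty (G ≃* Matrix.ProjectiveSpecialLinearGroup (Fin 2) (ZMod q)) := by
  obtain ⟨ρ, hinj, ⟨t, ht0, ht1⟩, H2, H3, ⟨w0, hw00, hw01⟩⟩ := exists_rho hm hm1 hcard hsyl
  have hm' : q / 2 = m := by omega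
  have hne0 : ∀ a : ZMod q, a ^ m = 1 → a ≠ 0 := by
    rintro a ha rfl
    rw [zero_pow (by omega)] at ha
    exact zero_ne_one ha
  -- normalize the swap
  obtain ⟨w, hw0, hw1, hr⟩ : ∃ w : G, ρ w none = some 0 ∧ ρ w (some 0) = none ∧
      (ρ w (some 1) = some 1 ∨ ρ w (some 1) = some n0) := by
    have hne : ρ w0 (some 1) ≠ none := by
      intro h
      have h2 : ρ w0 (some 1) = ρ w0 (some 0) := by rw [h, hw01]
      have h3 := Option.some.inj ((ρ w0).injective h2)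
      exact one_ne_zero h3
    obtain ⟨r, hr⟩ := Option.ne_none_iff_exists'.mp hne
    have hr0 : r ≠ 0 := by
      rintro rfl
      have h2 : ρ w0 (some 1) = ρ w0 none := by rw [hr, hw00]
      exact absurd ((ρ w0).injective h2) (by simp)
    have key : ∀ s : ZMod q, s ^ m = 1 → ∃ g : G, ρ (g * w0) none = some 0 ∧ ρ (g * w0) (some 0) = none ∧
        ρ (g * w0) (some 1) = some (s * r) := by
      intro s hs
      obtain ⟨g, hg0, hg1⟩ := H3 s hs
      refine ⟨g, ?_, ?_, ?_⟩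
      · rw [map_mul, Equiv.Perm.mul_apply, hw00, hg1, mul_zero]
      · rw [map_mul, Equiv.Perm.mul_apply, hw01, hg0]
      · rw [map_mul, Equiv.Perm.mul_apply, hr, hg1]
    rcases hn0 r hr0 with h | h
    · obtain ⟨g, h1, h2, h3⟩ := key r⁻¹ (by rw [inv_pow, h, inv_one])
      refine ⟨g * w0, h1, h2, Or.inl ?_⟩
      rw [h3, inv_mul_cancel₀ hr0]
    · have hn0'ne : n0' ≠ 0 := by
        rintro rfl
        rw [mul_zero] at hn
        exact zero_ne_one hn
      obtain ⟨g, h1, h2, h3⟩ := key (r * n0')⁻¹ (by rw [inv_pow, h, inv_one])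
      refine ⟨g * w0, h1, h2, Or.inr ?_⟩
      rw [h3]
      congr 1
      have hn' : n0 = n0'⁻¹ := eq_inv_of_mul_eq_one_left hn
      rw [hn']
      field_simp
  obtain ⟨e, r1, r2, hr1, hr2, hag⟩ := swap_shape ρ (by omega) H2 H3 a0 n0 n0' hroot ha0 hn hn0 w hw0 hw1 hr
  have hphi := fun i hi => phi_of_agree ρ t ht0 ht1 H2 w e.val r1 r2 hag i hi
  obtain ⟨c, hc, hgood⟩ := hW ρ hinj t w ht0 ht1 hw0 hw1 H3 e r1 r2 hr1 hr2 hphi hag
  have hsq : ∀ a : ZMod q, a ≠ 0 → a ^ m = 1 → ∃ s : ZMod q, s ≠ 0 ∧ a = s ^ 2 := by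
    intro a ha ham
    have h1 : IsSquare a := by
      have := (ZMod.euler_criterion q ha).mpr
      apply this
      rw [hm']
      exact ham
    obtain ⟨s, hs⟩ := h1
    refine ⟨s, ?_, by rw [hs]; ring⟩
    rintro rfl
    rw [mul_zero] at hs
    exact ha hs
  obtain ⟨s, hs0, hs⟩ := hsq (-c) (hne0 _ hc) hc
  have hwσ : ρ w ∈ (sigma (F := ZMod q)).range := by
    apply inv_mem_range c s hs0 hs (ρ w) hw0 hw1
    intro x hx
    refine ⟨cf m e.val r1 r2 x, ?_, hgood x hx⟩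
    rw [hag]
    show (if x = 0 then none else some (cf m e.val r1 r2 x)) = _
    rw [if_neg hx]
  exact nonempty_equiv_of_range_le hm (by omega) hcard ρ hinj (range_le ρ t ht0 ht1 H2 hsq w hw0 hw1 hwσ)

/-- The recognition theorem: the finite check excludes all other candidates for the swap. -/
theorem rec_prime {q m : ℕ} [Fact q.Prime] (hm : q = 2 * m + 1) (hm1 : 2 ≤ m)
    (a0 n0 n0' : ZMod q)
    (hroot : ∀ b : ZMod q, b ^ m = 1 → ∃ e, e < m ∧ b = a0 ^ e)
    (ha0 : a0 ^ m = 1) (hn : n0 * n0' = 1)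
    (hn0 : ∀ x : ZMod q, x ≠ 0 → x ^ m = 1 ∨ (x * n0') ^ m = 1)
    (hcheck : ∀ (e : Fin m) (r1 : ZMod q), (r1 = 1 ∨ r1 = n0) → ∀ r2 : ZMod q, r2 ≠ 0 →
      (∀ i : ZMod q, i ≠ 0 → Phi m e.val r1 r2 i) → ∃ c, Good m e.val r1 r2 c)
    {G : Type*} [Group G] [Finite G] [IsSimpleGroup G]
    (hcard : Nat.card G = (q + 1) * q * m) (hsyl : Nat.card (Sylow q G) = q + 1) :
    Nonempty (G ≃* Matrix.ProjectiveSpecialLinearGroup (Fin 2) (ZMod q)) :=
  rec_core hm hm1 a0 n0 n0' hroot ha0 hn hn0 hcard hsyl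
    (fun _ _ _ _ _ _ _ _ _ e r1 r2 hr1 hr2 hphi _ => hcheck e r1 hr1 r2 hr2 hphi)

end Cfsg.Agent.Lib.PslRec
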