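import Mathlib
import Cfsg.Agent.Lib.PslRec.Main
import Cfsg.Agent.Lib.Classical.Transfer
import Cfsg.Agent.Lib.SmallSimple.Sylow

set_option autoImplicit false

namespace Cfsg.Agent.Lib.PslRec

open Cfsg.Agent.Lib.SmallSimple

/-- Field change. -/
theorem psl_field_change {q : ℕ} (hq : q.Prime) {F : Type*} [Field F] [Fintype F] (hF : Fintype.card F = q) :
    Nonempty (Matrix.ProjectiveSpecialLinearGroup (Fin 2) (ZMod q) ≃* Matrix.ProjectiveSpecialLinearGroup (Fin 2) F) :=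
  ⟨Cfsg.Agent.Lib.Classical.pslCongr (ZMod.ringEquivOfPrime F hq hF)⟩

instance fact_prime_11 : Fact (Nat.Prime 11) := ⟨by norm_num⟩

theorem check_11_roots : ∀ b : ZMod 11, b ^ 5 = 1 → ∃ e : Fin 5, b = 4 ^ e.val := by decide +kernel
theorem check_11_a0 : (4 : ZMod 11) ^ 5 = 1 := by decide +kernel
theorem check_11_n0 : (2 : ZMod 11) * 6 = 1 := by decide +kernel
theorem check_11_n1 : ∀ x : ZMod 11, x ≠ 0 → x ^ 5 = 1 ∨ (x * 6) ^ 5 = 1 := by decide +kernel
theorem check_11_main : ∀ (e : Fin 5) (r1 : ZMod 11), (r1 = 1 ∨ r1 = 2) → ∀ r2 : ZMod 11, r2 ≠ 0 →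
    (∀ i : ZMod 11, i ≠ 0 → Phi 5 e.val r1 r2 i) → ∃ c, Good 5 e.val r1 r2 c := by decide +kernel

/-- A simple group of order `660` is `PSL₂(11)`. -/
theorem psl_rec_11 {G : Type*} [Group G] [Finite G] [IsSimpleGroup G] (h : Nat.card G = 660) :
    Nonempty (G ≃* Matrix.ProjectiveSpecialLinearGroup (Fin 2) (ZMod 11)) := by
  have hcard : Nat.card G = 11 ^ 1 * 60 := by rw [h]; norm_num
  have hnc : ¬ IsMulCommutative G := not_comm_of_not_prime (by rw [h]; norm_num)
  have hnp : ¬ IsPGroup 11 G := not_isPGroup_of_dvd (q := 2) (by norm_num) (by norm_num) (by norm_num) (by rw [h]; norm_num)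
  obtain ⟨h1, h2, h3, _⟩ := sylow_package hcard (by norm_num) (by norm_num) hnp hnc
  have hle := Nat.le_of_dvd (by norm_num) h2
  have hn : Nat.card (Sylow 11 G) = 12 := by
    generalize Nat.card (Sylow 11 G) = n at *
    interval_cases n <;> first | rfl | omega
  refine rec_prime (q := 11) (m := 5) (by norm_num) (by norm_num) 4 2 6 ?_ check_11_a0 check_11_n0 check_11_n1 check_11_main (by rw [h]) (by rw [hn])
  intro b hb
  obtain ⟨e, he⟩ := check_11_roots b hb
  exact ⟨e.val, e.isLt, he⟩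

instance fact_prime_13 : Fact (Nat.Prime 13) := ⟨by norm_num⟩

theorem check_13_roots : ∀ b : ZMod 13, b ^ 6 = 1 → ∃ e : Fin 6, b = 4 ^ e.val := by decide +kernel
theorem check_13_a0 : (4 : ZMod 13) ^ 6 = 1 := by decide +kernel
theorem check_13_n0 : (2 : ZMod 13) * 7 = 1 := by decide +kernel
theorem check_13_n1 : ∀ x : ZMod 13, x ≠ 0 → x ^ 6 = 1 ∨ (x * 7) ^ 6 = 1 := by decide +kernel
theorem check_13_main : ∀ (e : Fin 6) (r1 : ZMod 13), (r1 = 1 ∨ r1 = 2) → ∀ r2 : ZMod 13, r2 ≠ 0 →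
    (∀ i : ZMod 13, i ≠ 0 → Phi 6 e.val r1 r2 i) → ∃ c, Good 6 e.val r1 r2 c := by decide +kernel

/-- A simple group of order `1092` is `PSL₂(13)`. -/
theorem psl_rec_13 {G : Type*} [Group G] [Finite G] [IsSimpleGroup G] (h : Nat.card G = 1092) :
    Nonempty (G ≃* Matrix.ProjectiveSpecialLinearGroup (Fin 2) (ZMod 13)) := by
  have hcard : Nat.card G = 13 ^ 1 * 84 := by rw [h]; norm_num
  have hnc : ¬ IsMulCommutative G := not_comm_of_not_prime (by rw [h]; norm_num)
  have hnp : ¬ IsPGroup 13 G := not_isPGroup_of_dvd (q := 2) (by norm_num) (by norm_num) (by norm_num) (by rw [h]; norm_num)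
  obtain ⟨h1, h2, h3, _⟩ := sylow_package hcard (by norm_num) (by norm_num) hnp hnc
  have hle := Nat.le_of_dvd (by norm_num) h2
  have hn : Nat.card (Sylow 13 G) = 14 := by
    generalize Nat.card (Sylow 13 G) = n at *
    interval_cases n <;> first | rfl | omega
  refine rec_prime (q := 13) (m := 6) (by norm_num) (by norm_num) 4 2 7 ?_ check_13_a0 check_13_n0 check_13_n1 check_13_main (by rw [h]) (by rw [hn])
  intro b hb
  obtain ⟨e, he⟩ := check_13_roots b hb
  exact ⟨e.val, e.isLt, he⟩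

instance fact_prime_17 : Fact (Nat.Prime 17) := ⟨by norm_num⟩

theorem check_17_roots : ∀ b : ZMod 17, b ^ 8 = 1 → ∃ e : Fin 8, b = 9 ^ e.val := by decide +kernel
theorem check_17_a0 : (9 : ZMod 17) ^ 8 = 1 := by decide +kernel
theorem check_17_n0 : (3 : ZMod 17) * 6 = 1 := by decide +kernel
theorem check_17_n1 : ∀ x : ZMod 17, x ≠ 0 → x ^ 8 = 1 ∨ (x * 6) ^ 8 = 1 := by decide +kernel
theorem check_17_main : ∀ (e : Fin 8) (r1 : ZMod 17), (r1 = 1 ∨ r1 = 3) → ∀ r2 : ZMod 17, r2 ≠ 0 →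
    (∀ i : ZMod 17, i ≠ 0 → Phi 8 e.val r1 r2 i) → ∃ c, Good 8 e.val r1 r2 c := by decide +kernel

/-- A simple group of order `2448` is `PSL₂(17)`. -/
theorem psl_rec_17 {G : Type*} [Group G] [Finite G] [IsSimpleGroup G] (h : Nat.card G = 2448) :
    Nonempty (G ≃* Matrix.ProjectiveSpecialLinearGroup (Fin 2) (ZMod 17)) := by
  have hcard : Nat.card G = 17 ^ 1 * 144 := by rw [h]; norm_num
  have hnc : ¬ IsMulCommutative G := not_comm_of_not_prime (by rw [h]; norm_num)
  have hnp : ¬ IsPGroup 17 G := not_isPGroup_of_dvd (q := 2) (by norm_num) (by norm_num) (by norm_num) (by rw [h]; norm_num)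
  obtain ⟨h1, h2, h3, _⟩ := sylow_package hcard (by norm_num) (by norm_num) hnp hnc
  have hle := Nat.le_of_dvd (by norm_num) h2
  have hn : Nat.card (Sylow 17 G) = 18 := by
    generalize Nat.card (Sylow 17 G) = n at *
    interval_cases n <;> first | rfl | omega
  refine rec_prime (q := 17) (m := 8) (by norm_num) (by norm_num) 9 3 6 ?_ check_17_a0 check_17_n0 check_17_n1 check_17_main (by rw [h]) (by rw [hn])
  intro b hb
  obtain ⟨e, he⟩ := check_17_roots b hb
  exact ⟨e.val, e.isLt, he⟩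

instance fact_prime_19 : Fact (Nat.Prime 19) := ⟨by norm_num⟩

theorem check_19_roots : ∀ b : ZMod 19, b ^ 9 = 1 → ∃ e : Fin 9, b = 4 ^ e.val := by decide +kernel
theorem check_19_a0 : (4 : ZMod 19) ^ 9 = 1 := by decide +kernel
theorem check_19_n0 : (2 : ZMod 19) * 10 = 1 := by decide +kernel
theorem check_19_n1 : ∀ x : ZMod 19, x ≠ 0 → x ^ 9 = 1 ∨ (x * 10) ^ 9 = 1 := by decide +kernel
theorem check_19_main : ∀ (e : Fin 9) (r1 : ZMod 19), (r1 = 1 ∨ r1 = 2) → ∀ r2 : ZMod 19, r2 ≠ 0 →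
    (∀ i : ZMod 19, i ≠ 0 → Phi 9 e.val r1 r2 i) → ∃ c, Good 9 e.val r1 r2 c := by decide +kernel

/-- A simple group of order `3420` is `PSL₂(19)`. -/
theorem psl_rec_19 {G : Type*} [Group G] [Finite G] [IsSimpleGroup G] (h : Nat.card G = 3420) :
    Nonempty (G ≃* Matrix.ProjectiveSpecialLinearGroup (Fin 2) (ZMod 19)) := by
  have hcard : Nat.card G = 19 ^ 1 * 180 := by rw [h]; norm_num
  have hnc : ¬ IsMulCommutative G := not_comm_of_not_prime (by rw [h]; norm_num)
  have hnp : ¬ IsPGroup 19 G := not_isPGroup_of_dvd (q := 2) (by norm_num) (by norm_num) (by norm_num) (by rw [h]; norm_num)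
  obtain ⟨h1, h2, h3, _⟩ := sylow_package hcard (by norm_num) (by norm_num) hnp hnc
  have hle := Nat.le_of_dvd (by norm_num) h2
  have hn : Nat.card (Sylow 19 G) = 20 := by
    generalize Nat.card (Sylow 19 G) = n at *
    interval_cases n <;> first | rfl | omega
  refine rec_prime (q := 19) (m := 9) (by norm_num) (by norm_num) 4 2 10 ?_ check_19_a0 check_19_n0 check_19_n1 check_19_main (by rw [h]) (by rw [hn])
  intro b hb
  obtain ⟨e, he⟩ := check_19_roots b hb
  exact ⟨e.val, e.isLt, he⟩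

instance fact_prime_23 : Fact (Nat.Prime 23) := ⟨by norm_num⟩

theorem check_23_roots : ∀ b : ZMod 23, b ^ 11 = 1 → ∃ e : Fin 11, b = 2 ^ e.val := by decide +kernel
theorem check_23_a0 : (2 : ZMod 23) ^ 11 = 1 := by decide +kernel
theorem check_23_n0 : (5 : ZMod 23) * 14 = 1 := by decide +kernel
theorem check_23_n1 : ∀ x : ZMod 23, x ≠ 0 → x ^ 11 = 1 ∨ (x * 14) ^ 11 = 1 := by decide +kernel
theorem check_23_main : ∀ (e : Fin 11) (r1 : ZMod 23), (r1 = 1 ∨ r1 = 5) → ∀ r2 : ZMod 23, r2 ≠ 0 →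
    (∀ i : ZMod 23, i ≠ 0 → Phi 11 e.val r1 r2 i) → ∃ c, Good 11 e.val r1 r2 c := by decide +kernel

/-- A simple group of order `6072` is `PSL₂(23)`. -/
theorem psl_rec_23 {G : Type*} [Group G] [Finite G] [IsSimpleGroup G] (h : Nat.card G = 6072) :
    Nonempty (G ≃* Matrix.ProjectiveSpecialLinearGroup (Fin 2) (ZMod 23)) := by
  have hcard : Nat.card G = 23 ^ 1 * 264 := by rw [h]; norm_num
  have hnc : ¬ IsMulCommutative G := not_comm_of_not_prime (by rw [h]; norm_num)
  have hnp : ¬ IsPGroup 23 G := not_isPGroup_of_dvd (q := 2) (by norm_num) (by norm_num) (by norm_num) (by rw [h]; norm_num)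
  obtain ⟨h1, h2, h3, _⟩ := sylow_package hcard (by norm_num) (by norm_num) hnp hnc
  have hle := Nat.le_of_dvd (by norm_num) h2
  have hn : Nat.card (Sylow 23 G) = 24 := by
    generalize Nat.card (Sylow 23 G) = n at *
    interval_cases n <;> first | rfl | omega
  refine rec_prime (q := 23) (m := 11) (by norm_num) (by norm_num) 2 5 14 ?_ check_23_a0 check_23_n0 check_23_n1 check_23_main (by rw [h]) (by rw [hn])
  intro b hb
  obtain ⟨e, he⟩ := check_23_roots b hb
  exact ⟨e.val, e.isLt, he⟩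

end Cfsg.Agent.Lib.PslRec
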