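import Mathlib
import Cfsg.Agent.Lib.PslRec.Instances
import Cfsg.Agent.Lib.SmallSimple.Basic

set_option autoImplicit false
set_option linter.unusedVariables false

namespace Cfsg.Agent.Lib.PslRec

open Cfsg.Agent.Lib.SmallSimple Subgroup

instance fact_prime_7 : Fact (Nat.Prime 7) := ⟨by norm_num⟩

variable {q : ℕ}

/-- third power of the candidate -/
def cW3 (m e : ℕ) (r1 r2 : ZMod q) (y : Option (ZMod q)) : Option (ZMod q) :=
  cW m e r1 r2 (cW m e r1 r2 (cW m e r1 r2 y))

/-- translation of the line -/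
def shiftO (i : ZMod q) (y : Option (ZMod q)) : Option (ZMod q) := y.map (· + i)

/-- the conjugates of the cube of the candidate under translations commute -/
def Bad [NeZero q] (m e : ℕ) (r1 r2 : ZMod q) : Prop :=
  (∀ y, cW3 m e r1 r2 (cW3 m e r1 r2 y) = y) ∧
  (∀ (i : ZMod q) (y : Option (ZMod q)),
    cW3 m e r1 r2 (shiftO i (cW3 m e r1 r2 (shiftO (-i) y))) = shiftO i (cW3 m e r1 r2 (shiftO (-i) (cW3 m e r1 r2 y)))) ∧
  ∃ y, cW3 m e r1 r2 y ≠ shiftO 1 (cW3 m e r1 r2 (shiftO (-1) y))

instance [NeZero q] (m e : ℕ) (r1 r2 : ZMod q) : Decidable (Bad m e r1 r2) := by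
  unfold Bad
  infer_instance

theorem check_7_roots : ∀ b : ZMod 7, b ^ 3 = 1 → ∃ e : Fin 3, b = 2 ^ e.val := by decide +kernel
theorem check_7_a0 : (2 : ZMod 7) ^ 3 = 1 := by decide +kernel
theorem check_7_n0 : (3 : ZMod 7) * 5 = 1 := by decide +kernel
theorem check_7_n1 : ∀ x : ZMod 7, x ≠ 0 → x ^ 3 = 1 ∨ (x * 5) ^ 3 = 1 := by decide +kernel
theorem check_7_main : ∀ (e : Fin 3) (r1 : ZMod 7), (r1 = 1 ∨ r1 = 3) → ∀ r2 : ZMod 7, r2 ≠ 0 →
    (∀ i : ZMod 7, i ≠ 0 → Phi 3 e.val r1 r2 i) → (∃ c, Good 3 e.val r1 r2 c) ∨ Bad 3 e.val r1 r2 := by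
  decide +kernel

theorem one_val_seven : (1 : ZMod 7).val = 1 := by decide +kernel

theorem false_of_bad {G : Type*} [Group G] [Finite G] [IsSimpleGroup G] (h : Nat.card G = 168)
    (ρ : G →* Equiv.Perm (Option (ZMod 7))) (hinj : Function.Injective ρ) (t w : G)
    (ht0 : ρ t none = none) (ht1 : ∀ x, ρ t (some x) = some (x + 1))
    (e : ℕ) (r1 r2 : ZMod 7) (hag : ∀ y, ρ w y = cW 3 e r1 r2 y) (hbad : Bad 3 e r1 r2) : False := by
  have hnc : ¬ IsMulCommutative G := not_comm_of_not_prime (by rw [h]; norm_num)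
  obtain ⟨hb1, hb2, y0, hb3⟩ := hbad
  set u : G := w ^ 3 with hu_def
  have hu : ∀ y, ρ u y = cW3 3 e r1 r2 y := by
    intro y
    have : u = w * w * w := by rw [hu_def, pow_three']
    rw [this, map_mul, map_mul, Equiv.Perm.mul_apply, Equiv.Perm.mul_apply, hag, hag, hag]
    rfl
  have hpow : ∀ (n : ℕ) (y : Option (ZMod 7)), ρ (t ^ n) y = shiftO (n : ZMod 7) y := by
    intro n y
    cases y with
    | none =>
      induction n with
      | zero => simp [shiftO]
      | succ n ih =>
        rw [pow_succ, map_mul, Equiv.Perm.mul_apply, ht0, ih]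
        simp [shiftO]
    | some x =>
      induction n generalizing x with
      | zero => simp [shiftO]
      | succ n ih =>
        rw [pow_succ', map_mul, Equiv.Perm.mul_apply, ih]
        simp only [shiftO, Option.map_some]
        rw [ht1]
        congr 1
        push_cast
        ring
  have ht7 : t ^ 7 = 1 := by
    apply hinj
    apply Equiv.ext
    intro y
    rw [hpow]
    have : ((7 : ℕ) : ZMod 7) = 0 := by decide +kernel
    rw [this, map_one, Equiv.Perm.one_apply]
    cases y <;> simp [shiftO]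
  have ht1' : t ≠ 1 := by
    rintro rfl
    have := ht1 0
    rw [map_one, Equiv.Perm.one_apply] at this
    have h2 := Option.some.inj this
    exact absurd h2 (by decide +kernel)
  have ho : orderOf t = 7 := orderOf_eq_prime ht7 ht1'
  have hval : ∀ (i : ZMod 7) y, ρ (t ^ i.val) y = shiftO i y := by
    intro i y
    rw [hpow, ZMod.natCast_zmod_val]
  have hvalinv : ∀ (i : ZMod 7) y, ρ (t ^ i.val)⁻¹ y = shiftO (-i) y := by
    intro i y
    rw [map_inv, Equiv.Perm.inv_eq_iff_eq, hval]
    cases y <;> simp [shiftO]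
  let c : ZMod 7 → G := fun i => t ^ i.val * u * (t ^ i.val)⁻¹
  have hc0 : c 0 = u := by
    show t ^ (0 : ZMod 7).val * u * (t ^ (0 : ZMod 7).val)⁻¹ = u
    rw [ZMod.val_zero, pow_zero, one_mul, inv_one, mul_one]
  have hcomm0 : ∀ i, u * c i = c i * u := by
    intro i
    apply hinj
    apply Equiv.ext
    intro y
    simp only [c, map_mul, Equiv.Perm.mul_apply, hu, hval, hvalinv]
    exact hb2 i y
  have hadd : ∀ i k : ZMod 7, c (i + k) = t ^ i.val * c k * (t ^ i.val)⁻¹ := by
    intro i k
    show t ^ (i + k).val * u * (t ^ (i + k).val)⁻¹ = t ^ i.val * (t ^ k.val * u * (t ^ k.val)⁻¹) * (t ^ i.val)⁻¹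
    rw [pow_val_add t ho]
    group
  have hcomm : ∀ i j, c i * c j = c j * c i := by
    intro i j
    have h1 : c j = t ^ i.val * c (j - i) * (t ^ i.val)⁻¹ := by
      rw [← hadd]
      congr 1
      ring
    have h2 : c i = t ^ i.val * u * (t ^ i.val)⁻¹ := rfl
    rw [h1, h2]
    calc t ^ i.val * u * (t ^ i.val)⁻¹ * (t ^ i.val * c (j - i) * (t ^ i.val)⁻¹)
        = t ^ i.val * (u * c (j - i)) * (t ^ i.val)⁻¹ := by group
      _ = t ^ i.val * (c (j - i) * u) * (t ^ i.val)⁻¹ := by rw [hcomm0]
      _ = _ := by group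
  have huu : u * u = 1 := by
    apply hinj
    apply Equiv.ext
    intro y
    simp only [map_mul, Equiv.Perm.mul_apply, hu, map_one, Equiv.Perm.one_apply]
    exact hb1 y
  have hcc : ∀ i, c i * c i = 1 := by
    intro i
    show t ^ i.val * u * (t ^ i.val)⁻¹ * (t ^ i.val * u * (t ^ i.val)⁻¹) = 1
    calc _ = t ^ i.val * (u * u) * (t ^ i.val)⁻¹ := by group
      _ = 1 := by rw [huu]; group
  have hne : u ≠ c 1 := by
    intro h1
    apply hb3
    rw [← hu]
    have h2 : ρ (c 1) y0 = shiftO 1 (cW3 3 e r1 r2 (shiftO (-1) y0)) := by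
      simp only [c, map_mul, Equiv.Perm.mul_apply, hu, hval, hvalinv]
    rw [← h2, ← h1]
  let C : Subgroup G := closure (Set.range c)
  have hcmem : ∀ i, c i ∈ C := fun i => subset_closure ⟨i, rfl⟩
  have hCcomm : ∀ x ∈ C, ∀ y ∈ C, x * y = y * x := by
    have := Subgroup.isMulCommutative_closure (k := Set.range c) (by
      rintro _ ⟨i, rfl⟩ _ ⟨j, rfl⟩
      exact hcomm i j)
    intro x hx y hy
    have h2 := this.is_comm.comm (⟨x, hx⟩ : closure (Set.range c)) ⟨y, hy⟩
    exact congrArg Subtype.val h2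
  have hCexp : ∀ x ∈ C, x * x = 1 := by
    intro x hx
    induction hx using closure_induction with
    | mem x hx =>
      obtain ⟨i, rfl⟩ := hx
      exact hcc i
    | one => simp
    | mul x y hx hy ihx ihy =>
      calc x * y * (x * y) = x * (y * x) * y := by group
        _ = x * (x * y) * y := by rw [hCcomm y hy x hx]
        _ = (x * x) * (y * y) := by group
        _ = 1 := by rw [ihx, ihy, one_mul]
    | inv x hx ihx =>
      rw [← mul_inv_rev, ihx, inv_one]
  have hCp : IsPGroup 2 C := by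
    intro g
    refine ⟨1, ?_⟩
    apply Subtype.ext
    have := hCexp g.1 g.2
    simpa [pow_two] using this
  obtain ⟨a, ha⟩ := IsPGroup.iff_card.mp hCp
  have hu1 : u ≠ 1 := by
    rintro hu1
    apply hne
    show u = t ^ (1 : ZMod 7).val * u * (t ^ (1 : ZMod 7).val)⁻¹
    rw [hu1]
    group
  have hc1 : c 1 ≠ 1 := by
    intro hc1
    apply hu1
    have : t ^ (1 : ZMod 7).val * u * (t ^ (1 : ZMod 7).val)⁻¹ = 1 := hc1
    have h2 : u = (t ^ (1 : ZMod 7).val)⁻¹ * (t ^ (1 : ZMod 7).val * u * (t ^ (1 : ZMod 7).val)⁻¹) * t ^ (1 : ZMod 7).val := by group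
    rw [h2, this]
    group
  have hu_mem : u ∈ C := hc0 ▸ hcmem 0
  have ha2 : 2 ≤ a := by
    by_contra hlt
    have : a = 0 ∨ a = 1 := by omega
    rcases this with rfl | rfl
    · rw [pow_zero] at ha
      have h1 : Subsingleton C := (Nat.card_eq_one_iff_unique.mp ha).1
      have := Subsingleton.elim (⟨u, hu_mem⟩ : C) 1
      exact hu1 (congrArg Subtype.val this)
    · rw [pow_one] at ha
      obtain ⟨z, _, hz⟩ := (Nat.card_eq_two_iff' (1 : C)).mp ha
      have h1 := hz ⟨u, hu_mem⟩ (fun h => hu1 (congrArg Subtype.val h))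
      have h2 := hz ⟨c 1, hcmem 1⟩ (fun h => hc1 (congrArg Subtype.val h))
      exact hne (congrArg Subtype.val (h1.trans h2.symm))
  have hconj : ∀ i, t * c i * t⁻¹ = c (i + 1) := by
    intro i
    show t * (t ^ i.val * u * (t ^ i.val)⁻¹) * t⁻¹ = t ^ (i + 1).val * u * (t ^ (i + 1).val)⁻¹
    rw [pow_val_add t ho, one_val_seven, pow_one]
    have h1 : t * t ^ i.val = t ^ i.val * t := (Commute.self_pow t _)
    calc t * (t ^ i.val * u * (t ^ i.val)⁻¹) * t⁻¹ = (t * t ^ i.val) * u * (t * t ^ i.val)⁻¹ := by group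
      _ = (t ^ i.val * t) * u * (t ^ i.val * t)⁻¹ := by rw [h1]
  have htN : t ∈ normalizer (C : Set G) := by
    rw [mem_normalizer_iff]
    intro x
    constructor
    · intro hx
      induction hx using closure_induction with
      | mem x hx =>
        obtain ⟨i, rfl⟩ := hx
        rw [hconj]
        exact hcmem _
      | one => simp [C.one_mem]
      | mul x y hx hy ihx ihy =>
        have : t * (x * y) * t⁻¹ = (t * x * t⁻¹) * (t * y * t⁻¹) := by group
        rw [this]
        exact C.mul_mem ihx ihy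
      | inv x hx ihx =>
        have : t * x⁻¹ * t⁻¹ = (t * x * t⁻¹)⁻¹ := by group
        rw [this]
        exact C.inv_mem ihx
    · intro hx
      have key : ∀ z ∈ C, t⁻¹ * z * t ∈ C := by
        intro z hz
        induction hz using closure_induction with
        | mem z hz =>
          obtain ⟨i, rfl⟩ := hz
          have h1 := hconj (i - 1)
          rw [sub_add_cancel] at h1
          rw [← h1]
          have : t⁻¹ * (t * c (i - 1) * t⁻¹) * t = c (i - 1) := by group
          rw [this]
          exact hcmem _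
        | one => simp [C.one_mem]
        | mul x y hx hy ihx ihy =>
          have : t⁻¹ * (x * y) * t = (t⁻¹ * x * t) * (t⁻¹ * y * t) := by group
          rw [this]
          exact C.mul_mem ihx ihy
        | inv x hx ihx =>
          have : t⁻¹ * x⁻¹ * t = (t⁻¹ * x * t)⁻¹ := by group
          rw [this]
          exact C.inv_mem ihx
      have := key _ hx
      have h2 : t⁻¹ * (t * x * t⁻¹) * t = x := by group
      rwa [h2] at this
  let N : Subgroup G := normalizer (C : Set G)
  have hN7 : 7 ∣ Nat.card N := by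
    have := Subgroup.orderOf_dvd_natCard N htN
    rwa [ho] at this
  have hN4 : 4 ∣ Nat.card N := by
    have h1 : Nat.card C ∣ Nat.card N := Subgroup.card_dvd_of_le le_normalizer
    rw [ha] at h1
    exact (pow_dvd_pow 2 ha2).trans h1 |> fun h => by simpa using h
  have hN28 : 28 ∣ Nat.card N := by
    have : Nat.Coprime 7 4 := by norm_num
    have h2 := Nat.Coprime.mul_dvd_of_dvd_of_dvd this hN7 hN4
    simpa using h2
  have hidx := Subgroup.card_mul_index N
  rw [h] at hidx
  obtain ⟨k, hk⟩ := hN28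
  have hidxle : N.index * k = 6 := by
    rw [hk] at hidx
    have : 28 * (k * N.index) = 28 * 6 := by rw [← mul_assoc]; exact hidx.trans (by norm_num)
    have h3 := Nat.eq_of_mul_eq_mul_left (by norm_num) this
    rw [mul_comm]
    exact h3
  by_cases hNtop : N = ⊤
  · have hCn : C.Normal := normalizer_eq_top_iff.mp hNtop
    rcases hCn.eq_bot_or_eq_top with h0 | h0
    · apply hu1
      have := hu_mem
      rw [h0] at this
      exact (Subgroup.mem_bot.mp this)
    · apply hnc
      refine ⟨⟨fun x y => ?_⟩⟩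
      exact hCcomm x (by rw [h0]; trivial) y (by rw [h0]; trivial)
  · have h2 := two_mul_card_dvd_factorial hnc N hNtop
    rw [h] at h2
    have hle : N.index ≤ 6 := by
      have hk0 : 0 < k := by
        rcases Nat.eq_zero_or_pos k with rfl | h0
        · omega
        · exact h0
      calc N.index ≤ N.index * k := Nat.le_mul_of_pos_right _ hk0
        _ = 6 := hidxle
    generalize N.index = n at *
    interval_cases n <;> revert h2 <;> decide

/-- A simple group of order 168 is `PSL₂(7)`. -/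
theorem psl_rec_7 {G : Type*} [Group G] [Finite G] [IsSimpleGroup G] (h : Nat.card G = 168) :
    Nonempty (G ≃* Matrix.ProjectiveSpecialLinearGroup (Fin 2) (ZMod 7)) := by
  have hcard : Nat.card G = 7 ^ 1 * 24 := by rw [h]; norm_num
  have hnc : ¬ IsMulCommutative G := not_comm_of_not_prime (by rw [h]; norm_num)
  have hnp : ¬ IsPGroup 7 G := not_isPGroup_of_dvd (q := 2) (by norm_num) (by norm_num) (by norm_num) (by rw [h]; norm_num)
  obtain ⟨h1, h2, h3, _⟩ := sylow_package hcard (by norm_num) (by norm_num) hnp hnc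
  have hle := Nat.le_of_dvd (by norm_num) h2
  have hn : Nat.card (Sylow 7 G) = 8 := by
    generalize Nat.card (Sylow 7 G) = n at *
    interval_cases n <;> first | rfl | omega
  refine rec_core (q := 7) (m := 3) (by norm_num) (by norm_num) 2 3 5 ?_ check_7_a0 check_7_n0 check_7_n1 (by rw [h]) (by rw [hn]) ?_
  · intro b hb
    obtain ⟨e, he⟩ := check_7_roots b hb
    exact ⟨e.val, e.isLt, he⟩
  · intro ρ hinj t w ht0 ht1 _ _ _ e r1 r2 hr1 hr2 hphi hag
    rcases check_7_main e r1 hr1 r2 hr2 hphi with h4 | h4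
    · exact h4
    · exact (false_of_bad h ρ hinj t w ht0 ht1 e.val r1 r2 hag h4).elim

end Cfsg.Agent.Lib.PslRec
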